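import Mathlib
import Groth.Agent.H8Props.IsoLocus.Algebra
import Groth.Prelude.Def_CohB1

/-!
# Flatness of quotients of polynomial rings by forms which are regular on the closed fibre
-/

set_option autoImplicit false
set_option linter.style.haveILetI false

universe u

open MvPolynomial IsLocalRing TensorProduct CohB1

namespace Groth.Agent.H26FlatCI

variable {A : Type u} [CommRing A] [IsLocalRing A] {n : ℕ}

local notation "P" => MvPolynomial (Fin (n + 1)) A
set_option quotPrecheck false in
local notation "𝔓" => (maximalIdeal A).map (C : A →+* MvPolynomial (Fin (n + 1)) A)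
local notation "π" => MvPolynomial.map (σ := Fin (n + 1)) (residue A)

/-- Forms are regular on the closed fibre. -/
def FibreRegular {r : ℕ} (G : Fin r → P) : Prop :=
  ∀ (s : ℕ) (hs : s < r) (a : MvPolynomial (Fin (n + 1)) (ResidueField A)),
    a * π (G ⟨s, hs⟩) ∈ Ideal.span (Set.range fun i : Fin s => π (G ⟨i, i.2.trans hs⟩)) →
    a ∈ Ideal.span (Set.range fun i : Fin s => π (G ⟨i, i.2.trans hs⟩))

theorem inf_le_mul : ∀ {r : ℕ} (G : Fin r → P), FibreRegular G →
    𝔓 ⊓ Ideal.span (Set.range G) ≤ 𝔓 * Ideal.span (Set.range G) := by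
  intro r
  induction r with
  | zero =>
    intro G _
    rw [show Set.range G = ∅ from Set.range_eq_empty G, Ideal.span_empty]
    simp
  | succ r ih =>
    intro G hG a ha
    let J' := Ideal.span (Set.range (G ∘ Fin.castSucc))
    have hJ : Ideal.span (Set.range G) = J' ⊔ Ideal.span {G (Fin.last r)} := by
      rw [← Ideal.span_union]
      congr 1
      ext z
      constructor
      · rintro ⟨i, rfl⟩
        induction i using Fin.lastCases with
        | last => exact .inr rfl
        | cast i => exact .inl ⟨i, rfl⟩
      · rintro (⟨i, rfl⟩ | rfl) <;> exact ⟨_, rfl⟩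
    have hπ : Function.Surjective π := MvPolynomial.map_surjective _ residue_surjective
    have hker : RingHom.ker π = 𝔓 := by rw [MvPolynomial.ker_map, ker_residue]
    obtain ⟨ha1, ha2⟩ := ha
    rw [SetLike.mem_coe, hJ, Submodule.mem_sup] at ha2
    obtain ⟨b, hb, y, hy, rfl⟩ := ha2
    obtain ⟨c, rfl⟩ := Ideal.mem_span_singleton'.1 hy
    have hc : π c ∈ J'.map π := by
      rw [Ideal.map_span, ← Set.range_comp]
      refine hG r (Nat.lt_succ_self r) (π c) ?_
      have h0 : π (b + c * G (Fin.last r)) = 0 := (RingHom.mem_ker (f := π)).1 (hker.ge ha1)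
      rw [map_add, map_mul] at h0
      rw [show π c * π (G ⟨r, Nat.lt_succ_self r⟩) = - π b from eq_neg_of_add_eq_zero_right h0]
      refine neg_mem ?_
      have hb' : π b ∈ J'.map π := Ideal.mem_map_of_mem _ hb
      rw [Ideal.map_span, ← Set.range_comp] at hb'
      exact hb'
    obtain ⟨e, he, hec⟩ := (Ideal.mem_map_iff_of_surjective π hπ).1 hc
    have hμ : c - e ∈ 𝔓 := hker.le (by rw [RingHom.mem_ker, map_sub, hec, sub_self])
    have h1 : (c - e) * G (Fin.last r) ∈ 𝔓 * Ideal.span (Set.range G) :=
      Ideal.mul_mem_mul hμ (Ideal.subset_span ⟨_, rfl⟩)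
    have h2 : b + e * G (Fin.last r) ∈ 𝔓 * Ideal.span (Set.range (G ∘ Fin.castSucc)) := by
      refine ih (G ∘ Fin.castSucc) (fun s hs a h => hG s (hs.trans (Nat.lt_succ_self r)) a h) ⟨?_, ?_⟩
      · have h3 := Ideal.sub_mem _ ha1 (Ideal.mul_mem_right (G (Fin.last r)) _ hμ)
        show _ ∈ 𝔓
        convert! h3 using 1
        ring
      · exact J'.add_mem hb (J'.mul_mem_right _ he)
    have h3 : 𝔓 * Ideal.span (Set.range (G ∘ Fin.castSucc)) ≤ 𝔓 * Ideal.span (Set.range G) :=
      Ideal.mul_mono_right (Ideal.span_mono (Set.range_comp_subset_range _ _))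
    have := Ideal.add_mem _ (h3 h2) h1
    convert! this using 1
    ring

theorem mul_le_smul (J : Ideal P) : (𝔓 * J).restrictScalars A ≤ maximalIdeal A • J.restrictScalars A := by
  let S := maximalIdeal A • J.restrictScalars A
  have hS : ∀ (q z : P), z ∈ S → q * z ∈ S := fun q z hz =>
    Submodule.smul_induction_on hz (p := fun z => q * z ∈ S)
      (fun m hm y hy => by
        rw [mul_smul_comm]
        exact Submodule.smul_mem_smul hm (show q * y ∈ J.restrictScalars A from J.mul_mem_left q hy))
      fun a b ha hb => by rw [mul_add]; exact add_mem ha hb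
  let L : Ideal P := { S.toAddSubmonoid with smul_mem' := fun q z hz => hS q z hz }
  have hL : 𝔓 * J ≤ L := by
    refine Ideal.mul_le.2 fun p hp y hy => ?_
    have h : 𝔓 ≤ Submodule.colon L (J : Set P) := Ideal.map_le_iff_le_comap.2 fun m hm => by
      rw [Ideal.mem_comap, Submodule.mem_colon]
      intro y hy
      show C m * y ∈ S
      rw [← MvPolynomial.smul_eq_C_mul]
      exact Submodule.smul_mem_smul hm (show y ∈ J.restrictScalars A from hy)
    exact Submodule.mem_colon.1 (h hp) y hy
  exact fun z hz => hL hz

/-- A submodule of a finite free module whose reduction stays injective is a direct summand. -/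
theorem exists_retraction [IsNoetherianRing A] {M : Type u} [AddCommGroup M] [Module A M] [Module.Finite A M]
    [Module.Free A M] (N : Submodule A M)
    (h : ∀ v : N, (v : M) ∈ maximalIdeal A • (⊤ : Submodule A M) → v ∈ maximalIdeal A • (⊤ : Submodule A N)) :
    ∃ l : M →ₗ[A] N, l ∘ₗ N.subtype = LinearMap.id := by
  refine (split_injective_iff_lTensor_residueField_injective N.subtype).2
    ((injective_iff_map_eq_zero _).2 fun z hz => ?_)
  have hs : Function.Surjective ((TensorProduct.mk A (ResidueField A) N) 1) :=
    TensorProduct.mk_surjective A _ _ residue_surjective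
  obtain ⟨v, rfl⟩ := hs z
  have key : ∀ {W : Type u} [AddCommGroup W] [Module A W] (w : W),
      (1 : ResidueField A) ⊗ₜ[A] w = 0 ↔ w ∈ maximalIdeal A • (⊤ : Submodule A W) := fun {W} _ _ w => by
    show Ideal.Quotient.mk (maximalIdeal A) 1 ⊗ₜ[A] w = 0 ↔ _
    rw [← (TensorProduct.quotTensorEquivQuotSMul W (maximalIdeal A)).map_eq_zero_iff,
      TensorProduct.quotTensorEquivQuotSMul_mk_tmul, one_smul, Submodule.Quotient.mk_eq_zero]
  exact (key v).2 (h v ((key (v : M)).1 hz))

/-- Quotients by forms regular on the closed fibre are flat over a local base. -/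
theorem projective_quotient [IsNoetherianRing A] {r : ℕ} (G : Fin r → P)
    (hd : ∀ j, ∃ d, (G j).IsHomogeneous d) (hG : FibreRegular G) :
    Module.Projective A (P ⧸ Ideal.span (Set.range G)) := by
  classical
  let J := Ideal.span (Set.range G)
  have hJ : J.IsHomogeneous (polyGrading n A) :=
    Ideal.homogeneous_span _ _ (by rintro _ ⟨j, rfl⟩; exact hd j)
  have hcomp : ∀ e, ∀ a ∈ J, homogeneousComponent e a ∈ J := fun e a ha => by
    have h1 := hJ e ha
    rwa [show ((DirectSum.decompose (polyGrading n A) a e : P)) = homogeneousComponent e a from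
      MvPolynomial.decomposition.decompose'_apply a e] at h1
  let F : ℕ → Submodule A P := fun e => homogeneousSubmodule (Fin (n + 1)) A e
  let N : ∀ e, Submodule A (F e) := fun e => (J.restrictScalars A).comap (F e).subtype
  have hret : ∀ e, ∃ l : F e →ₗ[A] N e, l ∘ₗ (N e).subtype = LinearMap.id := by
    intro e
    haveI : Module.Finite A (F e) := Module.Finite.iff_fg.2 (MvPolynomial.homogeneousSubmodule_fg (σ := Fin (n + 1)) (R := A) e)
    haveI : Module.Free A (F e) := by
      show Module.Free A (homogeneousSubmodule (Fin (n + 1)) A e)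
      rw [homogeneousSubmodule_eq_finsupp_supported]
      exact Module.Free.of_equiv (AddMonoidAlgebra.supportedEquivFinsupp _).symm
    refine exists_retraction (N e) fun v hz => ?_
    have hv1 : ((v : F e) : P) ∈ 𝔓 := by
      refine Submodule.smul_induction_on hz (p := fun (w : F e) => (w : P) ∈ 𝔓) (fun m hm w _ => ?_) fun _ _ => add_mem
      show ((m • w : F e) : P) ∈ 𝔓
      rw [SetLike.val_smul, MvPolynomial.smul_eq_C_mul]
      exact Ideal.mul_mem_right _ _ (Ideal.mem_map_of_mem _ hm)
    have hv2 : ((v : F e) : P) ∈ maximalIdeal A • J.restrictScalars A :=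
      mul_le_smul J (show _ ∈ 𝔓 * J from inf_le_mul G hG ⟨hv1, v.2⟩)
    let q : J.restrictScalars A →ₗ[A] N e :=
      { toFun := fun a => ⟨⟨homogeneousComponent e (a : P), homogeneousComponent_mem e _⟩, hcomp e _ a.2⟩
        map_add' := fun a b => Subtype.ext (Subtype.ext (map_add _ _ _))
        map_smul' := fun a b => Subtype.ext (Subtype.ext (map_smul _ _ _)) }
    have hv3 : (⟨_, v.2⟩ : J.restrictScalars A) ∈ maximalIdeal A • (⊤ : Submodule A (J.restrictScalars A)) := by
      have h : ((v : F e) : P) ∈ (maximalIdeal A • (⊤ : Submodule A (J.restrictScalars A))).map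
          (J.restrictScalars A).subtype := by
        rw [Submodule.map_smul'', Submodule.map_top, Submodule.range_subtype]
        exact hv2
      obtain ⟨w, hw, hwv⟩ := Submodule.mem_map.1 h
      rwa [show (⟨_, v.2⟩ : J.restrictScalars A) = w from Subtype.ext hwv.symm]
    have hv4 := Submodule.mem_map_of_mem (f := q) hv3
    rw [Submodule.map_smul''] at hv4
    have hqv : q ⟨_, v.2⟩ = v := Subtype.ext (Subtype.ext (by
      show homogeneousComponent e ((v : F e) : P) = _
      rw [homogeneousComponent_of_mem (v : F e).2, if_pos rfl]))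
    exact Submodule.smul_mono le_rfl le_top (hqv ▸ hv4)
  choose l hl using hret
  let R : P →ₗ[A] P := (DirectSum.toModule A ℕ P fun e =>
    (F e).subtype ∘ₗ (N e).subtype ∘ₗ l e) ∘ₗ (DirectSum.decomposeLinearEquiv (polyGrading n A)).toLinearMap
  have hR : ∀ a, R a ∈ J := fun a => by
    show DirectSum.toModule A ℕ P _ (DirectSum.decompose (polyGrading n A) a) ∈ J
    generalize DirectSum.decompose (polyGrading n A) a = x
    induction x using DirectSum.induction_on with
    | zero => rw [map_zero]; exact J.zero_mem
    | of e x => rw [← DirectSum.lof_eq_of A, DirectSum.toModule_lof]; exact (l e x).2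
    | add x y hx hy => rw [map_add]; exact J.add_mem hx hy
  have hRid : ∀ a ∈ J, R a = a := fun a ha => by
    show DirectSum.toModule A ℕ P _ (DirectSum.decompose (polyGrading n A) a) = a
    conv_rhs => rw [← DirectSum.sum_support_decompose (polyGrading n A) a]
    rw [← DirectSum.sum_support_of (DirectSum.decompose (polyGrading n A) a), map_sum,
      DirectSum.sum_support_of (DirectSum.decompose (polyGrading n A) a)]
    refine Finset.sum_congr rfl fun e _ => ?_
    rw [← DirectSum.lof_eq_of A, DirectSum.toModule_lof]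
    have := LinearMap.congr_fun (hl e) ⟨DirectSum.decompose (polyGrading n A) a e, hJ e ha⟩
    exact congrArg (fun w : N e => ((w : F e) : P)) this
  let s : (P ⧸ J) →ₗ[A] P := (J.restrictScalars A).liftQ (LinearMap.id - R)
    fun a ha => by simp [hRid a ha]
  refine Module.Projective.of_split s (Ideal.Quotient.mkₐ A J).toLinearMap (LinearMap.ext fun b => ?_)
  obtain ⟨a, rfl⟩ := Ideal.Quotient.mk_surjective b
  show Ideal.Quotient.mk J (a - R a) = Ideal.Quotient.mk J a
  rw [map_sub, Ideal.Quotient.eq_zero_iff_mem.2 (hR a), sub_zero]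

end Groth.Agent.H26FlatCI
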