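import Groth.Agent.H22Alg.PnBC
import Groth.Agent.H11Proj.Scheme
import Groth.Agent.H7Lim.FibreDimDescend
import Groth.Agent.H22Alg.ProjDim

/-!
# The closed fibre of a closed subscheme of projective space over a local ring
-/

set_option autoImplicit false
set_option linter.style.haveILetI false
set_option backward.isDefEq.respectTransparency false

universe u

open CategoryTheory AlgebraicGeometry CohB1 IsLocalRing TopologicalSpace

namespace Groth.Agent.H26FlatCI

variable {A : Type u} [CommRing A] {N : ℕ} {B : Type u} [CommRing B] [Algebra A B]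
  {ℬ : ℕ → Submodule A B} [GradedAlgebra ℬ] (φ : polyGrading N A →+*ᵍ ℬ)
  (hφ : HomogeneousIdeal.irrelevant ℬ ≤ (HomogeneousIdeal.irrelevant (polyGrading N A)).map φ)

/-- The image of `Proj` of a graded surjection is the zero set of the kernel. -/
theorem range_map (hs : Function.Surjective φ) :
    Set.range (Proj.map φ hφ) =
      {x : ProjectiveSpectrum (polyGrading N A) | RingHom.ker φ ≤ x.asHomogeneousIdeal.toIdeal} := by
  ext x
  constructor
  · rintro ⟨y, rfl⟩ a ha
    show φ a ∈ y.asHomogeneousIdeal.toIdeal
    rw [RingHom.mem_ker.1 ha]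
    exact zero_mem _
  · intro hx
    have hcomap : (x.asHomogeneousIdeal.toIdeal.map φ).comap φ = x.asHomogeneousIdeal.toIdeal := by
      rw [Ideal.comap_map_of_surjective φ hs, sup_eq_left]
      exact hx
    have hm : (HomogeneousIdeal.map φ x.asHomogeneousIdeal).toIdeal = x.asHomogeneousIdeal.toIdeal.map φ := rfl
    refine ⟨⟨HomogeneousIdeal.map φ x.asHomogeneousIdeal, ?_, fun hle => x.not_irrelevant_le ?_⟩, ?_⟩
    · rw [hm]
      exact Ideal.map_isPrime_of_surjective hs hx
    · intro a ha
      have h := hle (HomogeneousIdeal.map_le_of_le_comap φ (J := HomogeneousIdeal.irrelevant ℬ) ?_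
        (Ideal.mem_map_of_mem φ ha))
      · exact hcomap.le (Ideal.mem_comap.2 h)
      · exact (HomogeneousIdeal.toIdeal_irrelevant_le (𝒜 := polyGrading N A)).2 fun i hi b hb =>
          HomogeneousIdeal.mem_irrelevant_of_mem ℬ hi (φ.2 hb)
    · exact ProjectiveSpectrum.ext (HomogeneousIdeal.toIdeal_injective hcomap)

variable [IsLocalRing A]

/-- The closed fibre is the zero set of the reduced ideal in projective space over the residue field. -/
theorem dim_closedFibre (hs : Function.Surjective φ) :
    topologicalKrullDim ↥((Proj.map φ hφ ≫ ProjSpace.toSpec N A).fiber (closedPoint A)) =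
      topologicalKrullDim ↥{y : ProjectiveSpectrum (polyGrading N (ResidueField A)) |
        (RingHom.ker φ).map (MvPolynomial.map (residue A)) ≤ y.asHomogeneousIdeal.toIdeal} := by
  let f := Proj.map φ hφ ≫ ProjSpace.toSpec N A
  haveI := H11Proj.isClosedImmersion_map φ hφ hs
  have hsq := H22Alg.PnBC.isPullback_projSpace N A (ResidueField A)
  let β : ProjSpace N (ResidueField A) ⟶ ProjSpace N A := Proj.map (H22Alg.PnBC.coeffMap N A (ResidueField A)) (H22Alg.PnBC.irrelevant_le N A (ResidueField A))
  haveI : IsClosedImmersion (Spec.map (CommRingCat.ofHom (algebraMap A (ResidueField A)))) :=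
    IsClosedImmersion.spec_of_surjective _ residue_surjective
  haveI : IsClosedImmersion β := MorphismProperty.of_isPullback hsq.flip inferInstance
  have hres : Set.range (Spec.map (CommRingCat.ofHom (algebraMap A (ResidueField A)))) = {closedPoint A} := by
    show Set.range (PrimeSpectrum.comap (residue A)) = _
    rw [range_comap_of_surjective _ _ residue_surjective, ker_residue]
    ext p
    simp only [PrimeSpectrum.mem_zeroLocus, SetLike.coe_subset_coe, Set.mem_singleton_iff]
    exact ⟨fun h => PrimeSpectrum.ext ((IsLocalRing.maximalIdeal.isMaximal A).eq_of_le p.isPrime.ne_top h).symm,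
      fun h => h ▸ le_rfl⟩
  have hβ : Set.range β = ProjSpace.toSpec N A ⁻¹' {closedPoint A} := by
    rw [← hres, show β = hsq.isoPullback.hom ≫ Limits.pullback.fst _ _ from hsq.isoPullback_hom_fst.symm,
      Scheme.Hom.comp_base]
    rw [TopCat.coe_comp, Set.range_comp]
    erw [Set.range_eq_univ.2 hsq.isoPullback.hom.surjective, Set.image_univ]
    exact Scheme.Pullback.range_fst (f := ProjSpace.toSpec N A) (g := _)
  have hset : {y : ProjectiveSpectrum (polyGrading N (ResidueField A)) |
      (RingHom.ker φ).map (MvPolynomial.map (residue A)) ≤ y.asHomogeneousIdeal.toIdeal} =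
      β ⁻¹' Set.range (Proj.map φ hφ) := by
    rw [range_map φ hφ hs]
    ext y
    exact Ideal.map_le_iff_le_comap
  have himg : β '' (β ⁻¹' Set.range (Proj.map φ hφ)) = Proj.map φ hφ '' (f ⁻¹' {closedPoint A}) := by
    rw [Set.image_preimage_eq_inter_range, hβ]
    ext x
    constructor
    · rintro ⟨⟨z, rfl⟩, hx⟩
      exact ⟨z, hx, rfl⟩
    · rintro ⟨z, hz, rfl⟩
      exact ⟨⟨z, rfl⟩, hz⟩
  rw [hset, IsHomeomorph.topologicalKrullDim_eq _ (f.fiberHomeo (closedPoint A)).isHomeomorph,
    IsHomeomorph.topologicalKrullDim_eq _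
      ((Proj.map φ hφ).isClosedEmbedding.isEmbedding.homeomorphImage (f ⁻¹' {closedPoint A})).isHomeomorph,
    ← himg]
  exact (IsHomeomorph.topologicalKrullDim_eq _
    (β.isClosedEmbedding.isEmbedding.homeomorphImage _).isHomeomorph).symm

/-- For a proper morphism to a local scheme the closed fibre bounds the dimension of every fibre. -/
theorem dim_fiber_le {X : Scheme.{u}} (f : X ⟶ Spec (CommRingCat.of A)) [IsProper f] (n : WithBot ℕ∞)
    (h : topologicalKrullDim (f.fiber (closedPoint A)) ≤ n) (s : Spec (CommRingCat.of A)) :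
    topologicalKrullDim (f.fiber s) ≤ n := by
  refine H7Lim.dim_fiber_le_of_forall f s n fun x => ?_
  haveI : CompactSpace X := QuasiCompact.compactSpace_of_compactSpace f
  obtain ⟨x₀, hx₀, hcl⟩ := IsClosed.exists_closed_singleton (isClosed_closure (s := ({x} : Set X)))
    (closure_nonempty_iff.2 ⟨x, rfl⟩)
  have hclosed : IsClosed ({f x₀} : Set (Spec (CommRingCat.of A))) := by
    rw [← Set.image_singleton]
    exact f.isClosedMap _ hcl
  have he : f x₀ = closedPoint A :=
    PrimeSpectrum.ext (eq_maximalIdeal ((PrimeSpectrum.isClosed_singleton_iff_isMaximal (R := A) (f x₀)).1 hclosed))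
  refine (H8Props.FieldDim.fibreDimAt_le_of_specializes f (specializes_iff_mem_closure.2 hx₀)).trans ?_
  refine (H7Lim.fibreDimAt_le_dim_fiber f x₀).trans ?_
  rw [he]
  exact h

end Groth.Agent.H26FlatCI
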