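import Mathlib

/-!
# Flatness of `Proj` of a flat graded algebra generated in degree one
-/

set_option autoImplicit false
set_option linter.style.haveILetI false
set_option backward.isDefEq.respectTransparency false

universe u

open CategoryTheory AlgebraicGeometry HomogeneousLocalization DirectSum

namespace Groth.Agent.H26FlatCI

variable {R B : Type u} [CommRing R] [CommRing B] [Algebra R B] (ℬ : ℕ → Submodule R B) [GradedAlgebra ℬ]

/-- The degree zero part of a localization at an element of degree one is flat when the algebra is. -/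
theorem flat_away [Module.Flat R B] {g : B} (hg : g ∈ ℬ 1) :
    ((fromZeroRingHom ℬ (Submonoid.powers g)).comp (algebraMap R (ℬ 0))).Flat := by
  have hdeg : ∀ (e : ℕ) (b : ℬ e), (b : B) ∈ ℬ (e • 1) := fun e b => by
    rw [smul_eq_mul, mul_one]; exact b.2
  let φ : ∀ e, ℬ e →+ Away ℬ g := fun e => AddMonoidHom.mk' (fun b => Away.mk ℬ hg e b (hdeg e b))
    fun a b => by
      apply val_injective
      rw [HomogeneousLocalization.val_add, Away.val_mk, Away.val_mk, Away.val_mk, Localization.add_mk_self]
      rfl
  let δ : B →+* Away ℬ g := (DirectSum.toSemiring φ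
    (by apply val_injective; rw [HomogeneousLocalization.val_one]; show Localization.mk _ _ = _
        simp [Localization.mk_one_eq_algebraMap])
    (fun {i j} a b => by
      apply val_injective
      rw [HomogeneousLocalization.val_mul]
      show Localization.mk _ _ = Localization.mk _ _ * Localization.mk _ _
      rw [Localization.mk_mul]
      congr 1
      exact Subtype.ext (pow_add g i j))).comp (DirectSum.decomposeRingEquiv ℬ).toRingHom
  have hδ : ∀ (e : ℕ) (b : B) (hb : b ∈ ℬ e), δ b = φ e ⟨b, hb⟩ := fun e b hb => by
    simp only [δ, RingHom.comp_apply]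
    erw [DirectSum.decompose_of_mem ℬ hb, DirectSum.toSemiring_of]
  have hg1 : δ g = 1 := by
    apply val_injective
    rw [hδ 1 g hg, HomogeneousLocalization.val_one]
    show Localization.mk _ _ = _
    simp
  have hunit : IsUnit (δ g) := hg1 ▸ isUnit_one
  let ρ : Localization.Away g →+* Away ℬ g := IsLocalization.Away.lift g hunit
  have hρ : ∀ x : Away ℬ g, ρ x.val = x := by
    intro x
    obtain ⟨n, a, ha, rfl⟩ := Away.mk_surjective ℬ hg x
    rw [Away.val_mk, Localization.mk_eq_mk']
    have ha' : a ∈ ℬ n := by simpa using ha
    have h1 : ρ (IsLocalization.mk' _ a (⟨g ^ n, n, rfl⟩ : Submonoid.powers g)) * δ (g ^ n) = δ a := by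
      rw [← IsLocalization.Away.lift_eq g hunit (g ^ n) (S := Localization.Away g), ← map_mul,
        IsLocalization.mk'_spec (Localization.Away g) a (⟨g ^ n, n, rfl⟩ : Submonoid.powers g), IsLocalization.Away.lift_eq]
    rw [map_pow, hg1, one_pow, mul_one, hδ n a ha'] at h1
    exact h1
  let τ := (fromZeroRingHom ℬ (Submonoid.powers g)).comp (algebraMap R (ℬ 0))
  letI := τ.toAlgebra
  have hτ : ∀ r : R, (τ r).val = algebraMap R (Localization.Away g) r := fun r => by
    show Localization.mk (algebraMap R B r) _ = _
    rw [IsScalarTower.algebraMap_apply R B (Localization.Away g)]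
    exact Localization.mk_one_eq_algebraMap _
  let i : Away ℬ g →ₗ[R] Localization.Away g :=
    { toFun := val
      map_add' := fun a b => HomogeneousLocalization.val_add a b
      map_smul' := fun r a => by
        rw [Algebra.smul_def, RingHom.id_apply, Algebra.smul_def, ← hτ, ← HomogeneousLocalization.val_mul]
        rfl }
  let p : Localization.Away g →ₗ[R] Away ℬ g :=
    { toFun := ρ
      map_add' := map_add ρ
      map_smul' := fun r a => by
        rw [Algebra.smul_def, RingHom.id_apply, Algebra.smul_def, map_mul, ← hτ, hρ]
        rfl }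
  haveI : Module.Flat R (Localization.Away g) := Module.Flat.trans R B (Localization.Away g)
  exact Module.Flat.of_retract i p (LinearMap.ext hρ)

/-- A morphism from `Proj` which is the structure map in degree zero is flat for a flat algebra covered in degree one. -/
theorem flat_toSpec [Module.Flat R B] {ι : Type u} (g : ι → B) (hg : ∀ i, g i ∈ ℬ 1)
    (hirr : (HomogeneousIdeal.irrelevant ℬ).toIdeal ≤ Ideal.span (Set.range g)) :
    Flat (Proj.toSpecZero ℬ ≫ Spec.map (CommRingCat.ofHom (algebraMap R (ℬ 0)))) := by
  refine IsZariskiLocalAtSource.of_openCover (P := @Flat)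
    (Proj.affineOpenCoverOfIrrelevantLESpan ℬ g hg (fun _ => Nat.one_pos) hirr).openCover fun i => ?_
  show Flat (Proj.awayι ℬ (g i) (hg i) Nat.one_pos ≫ _)
  rw [← Category.assoc, Proj.awayι_toSpecZero, ← Spec.map_comp]
  exact (HasRingHomProperty.Spec_iff (P := @Flat)).2 (flat_away ℬ (hg i))

end Groth.Agent.H26FlatCI
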