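import Groth.Agent.H22Alg.ProjDim2
import Groth.Agent.H22Alg.ProjCut
import Groth.Agent.H8Props.MiracleFlat
import Groth.Agent.H4Depth.Regular
import Mathlib.RingTheory.RegularLocalRing.Polynomial
import Mathlib.RingTheory.Regular.RegularSequence

/-!
# Choosing forms which cut projective space properly, and their regularity
-/

set_option autoImplicit false
set_option linter.style.haveILetI false

universe u

open MvPolynomial CohB1
open Groth.Agent.H22Alg.ProjDim

namespace Groth.Agent.H26FlatCI

variable (k : Type u) [Field k] (n : ℕ)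

local notation "𝒮" => MvPolynomial (Fin (n + 1)) k
local notation "ℙ" => ProjectiveSpectrum (polyGrading n k)

/-- A minimal prime over homogeneous elements of positive degree is the irrelevant ideal or a point. -/
theorem point_of_minimal {s : Set 𝒮} (hs : ∀ f ∈ s, ∃ d, 0 < d ∧ f.IsHomogeneous d) {q : Ideal 𝒮}
    (hq : q ∈ (Ideal.span s).minimalPrimes) :
    q = (HomogeneousIdeal.irrelevant (polyGrading n k)).toIdeal ∨ ∃ y : ℙ, y.asHomogeneousIdeal.toIdeal = q := by
  haveI := hq.1.1
  have hhom : q.IsHomogeneous (polyGrading n k) :=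
    H26Grass.Graded.isHomogeneous_of_mem_minimalPrimes (Ideal.homogeneous_span _ _ fun f hf => by
      obtain ⟨d, -, hd⟩ := hs f hf; exact ⟨d, hd⟩) hq
  by_cases h : (HomogeneousIdeal.irrelevant (polyGrading n k)).toIdeal ≤ q
  · exact .inl (le_antisymm (le_irrelevant k n hhom hq.1.1.ne_top) h)
  · exact .inr ⟨⟨⟨q, hhom⟩, hq.1.1, fun hle => h hle⟩, rfl⟩

/-- Forms in a homogeneous ideal with small zero set which cut projective space properly at every step. -/
theorem exists_forms (I : Ideal 𝒮) (hI : I.IsHomogeneous (polyGrading n k)) (m : ℕ)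
    (hdim : ∀ x : ℙ, I ≤ x.asHomogeneousIdeal.toIdeal → qdim k n x ≤ m + 1) : ∀ r : ℕ, r + m ≤ n →
    ∃ h : Fin r → 𝒮, (∀ j, ∃ d, 0 < d ∧ (h j).IsHomogeneous d) ∧ (∀ j, h j ∈ I) ∧
      ∀ s : ℕ, s ≤ r → ∀ x : ℙ, (∀ j : Fin r, (j : ℕ) < s → h j ∈ x.asHomogeneousIdeal.toIdeal) →
        qdim k n x + s ≤ n + 1 := by
  intro r
  induction r with
  | zero =>
    intro _
    refine ⟨Fin.elim0, fun j => j.elim0, fun j => j.elim0, fun s hs x _ => ?_⟩
    have := qdim_le_succ k n x
    omega
  | succ r ih =>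
    intro hr
    obtain ⟨h, hd, hhI, hcut⟩ := ih (by omega)
    let S : Set ℙ := {x | (∀ j, h j ∈ x.asHomogeneousIdeal.toIdeal) ∧ qdim k n x + r = n + 1}
    have hmin : ∀ x ∈ S, x.asHomogeneousIdeal.toIdeal ∈ (Ideal.span (Set.range h)).minimalPrimes := by
      rintro x ⟨hx, hxd⟩
      obtain ⟨q, hq, hqx⟩ := Ideal.exists_minimalPrimes_le
        (I := Ideal.span (Set.range h)) (J := x.asHomogeneousIdeal.toIdeal)
        (Ideal.span_le.2 fun f ⟨j, hj⟩ => hj ▸ hx j)
      rcases point_of_minimal k n (by rintro f ⟨j, rfl⟩; exact hd j) hq with rfl | ⟨y, rfl⟩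
      · exact absurd hqx x.not_irrelevant_le
      · rcases (show y ≤ x from hqx).eq_or_lt with rfl | hlt
        · exact hq
        · have h1 := qdim_lt k n hlt
          have h2 := hcut r le_rfl y fun j _ => hq.1.2 (Ideal.subset_span ⟨j, rfl⟩)
          omega
    have hfin : ((fun x : ℙ => x.asHomogeneousIdeal.toIdeal) '' S).Finite :=
      ((Ideal.span (Set.range h)).finite_minimalPrimes_of_isNoetherianRing).subset
        (Set.image_subset_iff.2 hmin)
    obtain ⟨d, g, hd0, hg, hgI, hgS⟩ := exists_form_avoiding k n I hI hfin.toFinset fun q hq => by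
      obtain ⟨x, hx, rfl⟩ := hfin.mem_toFinset.1 hq
      exact ⟨x.isPrime, x.asHomogeneousIdeal.isHomogeneous,
        fun hle => by have := hdim x hle; have := hx.2; omega, x.not_irrelevant_le⟩
    refine ⟨Fin.snoc h g, fun j => ?_, fun j => ?_, fun s hs x hx => ?_⟩
    · induction j using Fin.lastCases with
      | last => rw [Fin.snoc_last]; exact ⟨d, hd0, hg⟩
      | cast j => rw [Fin.snoc_castSucc]; exact hd j
    · induction j using Fin.lastCases with
      | last => rw [Fin.snoc_last]; exact hgI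
      | cast j => rw [Fin.snoc_castSucc]; exact hhI j
    · have hx' : ∀ j : Fin r, (j : ℕ) < s → h j ∈ x.asHomogeneousIdeal.toIdeal := fun j hj => by
        have := hx j.castSucc hj
        rwa [Fin.snoc_castSucc] at this
      rcases Nat.lt_or_ge s (r + 1) with hsr | hsr
      · exact hcut s (by omega) x hx'
      · have hxall : ∀ j, h j ∈ x.asHomogeneousIdeal.toIdeal := fun j => hx' j (by omega)
        have h1 := hcut r le_rfl x fun j _ => hxall j
        by_contra hne
        refine hgS _ (hfin.mem_toFinset.2 ⟨x, ⟨hxall, by omega⟩, rfl⟩) ?_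
        have := hx (Fin.last r) (by simp; omega)
        rwa [Fin.snoc_last] at this

/-- A homogeneous ideal is saturated with respect to polynomials with nonzero constant term. -/
theorem mem_of_mul_mem_of_notMem {J : Ideal 𝒮} (hJ : J.IsHomogeneous (polyGrading n k)) {s a : 𝒮}
    (hs : s ∉ (HomogeneousIdeal.irrelevant (polyGrading n k)).toIdeal) (ha : s * a ∈ J) : a ∈ J := by
  classical
  haveI := irrelevant_isMaximal k n
  refine (sum_homogeneousComponent a) ▸ J.sum_mem fun e _ => ?_
  let M := (HomogeneousIdeal.irrelevant (polyGrading n k)).toIdeal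
  have hM : M ≤ idealOfVars (Fin (n + 1)) k := fun p hp => by
    rw [← pow_one (idealOfVars (Fin (n + 1)) k), mem_pow_idealOfVars_iff']
    intro d hd
    rw [show M = RingHom.ker constantCoeff from irrelevant_eq_ker k n, RingHom.mem_ker, constantCoeff_eq] at hp
    rwa [show d = 0 from (Finsupp.degree_eq_zero_iff d).1 (Nat.lt_one_iff.1 hd)]
  have htop : M ^ (e + 1) ⊔ Ideal.span {s} = ⊤ := Ideal.pow_sup_eq_top (n := e + 1)
    ((inferInstance : M.IsMaximal).1.2 _ (lt_of_le_of_ne le_sup_left fun h =>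
      hs (h.ge (Submodule.mem_sup_right (Ideal.mem_span_singleton_self s)))))
  obtain ⟨t, ht, w, hw, he⟩ := Submodule.mem_sup.1 ((Ideal.eq_top_iff_one _).1 htop)
  obtain ⟨c, rfl⟩ := Ideal.mem_span_singleton'.1 hw
  have hdec : a - t * a ∈ J := by
    rw [show a - t * a = c * (s * a) by linear_combination -a * he]
    exact J.mul_mem_left _ ha
  have hzero : homogeneousComponent e (t * a) = 0 := by
    refine MvPolynomial.ext _ _ fun d => ?_
    rw [coeff_homogeneousComponent, coeff_zero]
    split_ifs with hd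
    · exact (mem_pow_idealOfVars_iff' _ _).1 (Ideal.pow_right_mono hM _ ((M ^ (e + 1)).mul_mem_right a ht)) d (by omega)
    · rfl
  have h := hJ e hdec
  rw [show ((DirectSum.decompose (polyGrading n k) (a - t * a) e : 𝒮)) = homogeneousComponent e (a - t * a) from
    MvPolynomial.decomposition.decompose'_apply _ e, map_sub, hzero, sub_zero] at h
  exact h

/-- The last of properly cutting forms is regular modulo the previous ones. -/
theorem mem_of_mul_mem {r : ℕ} (hr : r ≤ n) (h : Fin (r + 1) → 𝒮)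
    (hd : ∀ j, ∃ d, 0 < d ∧ (h j).IsHomogeneous d)
    (hcut : ∀ x : ℙ, (∀ j, h j ∈ x.asHomogeneousIdeal.toIdeal) → qdim k n x + (r + 1) ≤ n + 1)
    (a : 𝒮) (ha : a * h (Fin.last r) ∈ Ideal.span (Set.range (h ∘ Fin.castSucc))) :
    a ∈ Ideal.span (Set.range (h ∘ Fin.castSucc)) := by
  classical
  haveI := irrelevant_isMaximal k n
  let M := (HomogeneousIdeal.irrelevant (polyGrading n k)).toIdeal
  let R := Localization.AtPrime M
  haveI : IsRegularLocalRing R := inferInstance
  haveI := H4Depth.isCohenMacaulayLocalRing_of_regular R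
  let f : Fin (r + 1) → R := fun j => algebraMap 𝒮 R (h j)
  let J := Ideal.span (Set.range h)
  have hofList : ∀ {m : ℕ} (v : Fin m → R), Ideal.ofList (List.ofFn v) = Ideal.span (Set.range v) :=
    fun v => congrArg Ideal.span (Set.ext fun z => List.mem_ofFn)
  have hdimR : ringKrullDim R = ((n + 1 : ℕ) : WithBot ℕ∞) := by
    have h0 : ringKrullDim (𝒮 ⧸ M) = (0 : ℕ) := by
      letI := Ideal.Quotient.field M
      exact ringKrullDim_eq_zero_of_field _
    obtain ⟨e, he, he'⟩ := exists_height_eq k n M h0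
    rw [IsLocalization.AtPrime.ringKrullDim_eq_height M R, he]
    simp only [show e = n + 1 by omega]
    rfl
  have hdimJ : ringKrullDim (R ⧸ Ideal.span (Set.range f)) ≤ ((n - r : ℕ) : WithBot ℕ∞) := by
    rw [ringKrullDim_quotient, Order.krullDim]
    refine iSup_le fun p => ?_
    have hle : J ≤ (PrimeSpectrum.comap (algebraMap 𝒮 R) p.head.1).asIdeal := Ideal.span_le.2 (by
      rintro _ ⟨j, rfl⟩
      exact p.head.2 (Ideal.subset_span ⟨j, rfl⟩))
    obtain ⟨q, hq, hqp⟩ := Ideal.exists_minimalPrimes_le hle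
    have hinj : StrictMono (PrimeSpectrum.comap (algebraMap 𝒮 R)) :=
      Monotone.strictMono_of_injective (fun _ _ h => Ideal.comap_mono h)
        (PrimeSpectrum.localization_comap_injective R M.primeCompl)
    let p' : LTSeries (PrimeSpectrum.zeroLocus (q : Set 𝒮)) :=
      { length := p.length
        toFun := fun i => ⟨PrimeSpectrum.comap (algebraMap 𝒮 R) (p i).1,
          fun z hz => Ideal.comap_mono (f := algebraMap 𝒮 R)
            (show (p.head.1).asIdeal ≤ ((p i).1).asIdeal from LTSeries.monotone p (Fin.zero_le i)) (hqp hz)⟩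
        step := fun i => hinj (p.step i) }
    have hdq : ringKrullDim (𝒮 ⧸ q) ≤ ((n - r : ℕ) : WithBot ℕ∞) := by
      rcases point_of_minimal k n (by rintro g ⟨j, rfl⟩; exact hd j) hq with rfl | ⟨y, rfl⟩
      · letI := Ideal.Quotient.field M
        rw [ringKrullDim_eq_zero_of_field]
        exact_mod_cast Nat.zero_le _
      · rw [qdim_spec]
        have := hcut y fun j => hq.1.2 (Ideal.subset_span ⟨j, rfl⟩)
        exact_mod_cast (show qdim k n y ≤ n - r by omega)
    refine le_trans ?_ hdq
    rw [ringKrullDim_quotient]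
    exact Order.LTSeries.length_le_krullDim p'
  have hmemM : ∀ j, f j ∈ IsLocalRing.maximalIdeal R := fun j => by
    rw [IsLocalization.AtPrime.to_map_mem_maximal_iff R M]
    obtain ⟨d, hd0, hdj⟩ := hd j
    exact mem_irrelevant_of_homogeneous k n hdj hd0
  have hreg : RingTheory.Sequence.IsWeaklyRegular R (List.ofFn f) := by
    refine H8Props.MiracleFlat.isWeaklyRegular_of_supportDim _ _ (fun z hz => ?_)
      LocCoh.IsCohenMacaulayLocalRing.supportDim_eq_depth ?_
    · obtain ⟨j, rfl⟩ := List.mem_ofFn.1 hz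
      exact hmemM j
    · rw [smul_eq_mul, Ideal.mul_top, hofList, Module.supportDim_quotient_eq_ringKrullDim,
        Module.supportDim_self_eq_ringKrullDim, List.length_ofFn, hdimR]
      refine (add_le_add_left hdimJ _).trans ?_
      exact_mod_cast (show n - r + (r + 1) ≤ n + 1 by omega)
  have hJ' : (Ideal.span (Set.range (h ∘ Fin.castSucc))).map (algebraMap 𝒮 R) =
      Ideal.ofList (List.ofFn (f ∘ Fin.castSucc)) := by
    rw [Ideal.map_span, hofList, ← Set.range_comp]
    rfl
  rw [show List.ofFn f = List.ofFn (f ∘ Fin.castSucc) ++ [f (Fin.last r)] from List.ofFn_succ_last,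
    RingTheory.Sequence.isWeaklyRegular_append_iff] at hreg
  have hsm := hreg.2
  rw [RingTheory.Sequence.isWeaklyRegular_singleton_iff] at hsm
  have hloc : algebraMap 𝒮 R a ∈ (Ideal.span (Set.range (h ∘ Fin.castSucc))).map (algebraMap 𝒮 R) := by
    rw [hJ']
    have hmem : f (Fin.last r) * algebraMap 𝒮 R a ∈ Ideal.ofList (List.ofFn (f ∘ Fin.castSucc)) := by
      rw [← hJ', mul_comm, ← map_mul]
      exact Ideal.mem_map_of_mem _ ha
    have := (Submodule.Quotient.mk_eq_zero
      ((Ideal.ofList (List.ofFn (f ∘ Fin.castSucc))) • (⊤ : Submodule R R))).1 (hsm (a₁ := Submodule.Quotient.mk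
        (algebraMap 𝒮 R a)) (a₂ := 0) ?_)
    · rwa [smul_eq_mul, Ideal.mul_top] at this
    dsimp only
    rw [← Submodule.Quotient.mk_smul, smul_zero, Submodule.Quotient.mk_eq_zero, smul_eq_mul, smul_eq_mul,
      Ideal.mul_top]
    exact hmem
  obtain ⟨⟨⟨b, hb⟩, ⟨s, hs⟩⟩, hbs⟩ := (IsLocalization.mem_map_algebraMap_iff M.primeCompl R).1 hloc
  simp only [← map_mul, IsLocalization.eq_iff_exists M.primeCompl R] at hbs
  obtain ⟨⟨c, hc⟩, hcs⟩ := hbs
  refine mem_of_mul_mem_of_notMem k n (Ideal.homogeneous_span _ _ ?_) (s := c * s)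
    (fun hm => ((inferInstance : M.IsPrime).mem_or_mem hm).elim hc hs) ?_
  · rintro _ ⟨j, rfl⟩
    obtain ⟨d, -, hd'⟩ := hd j.castSucc
    exact ⟨d, hd'⟩
  · rw [show c * s * a = c * (a * s) by ring, show c * (a * s) = c * b from hcs]
    exact Ideal.mul_mem_left _ c hb

end Groth.Agent.H26FlatCI
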